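import Mathlib.FieldTheory.IsAlgClosed.Classification
import Mathlib.FieldTheory.IsAlgClosed.AlgebraicClosure
import Mathlib.RingTheory.AlgebraicIndependent.TranscendenceBasis
import Mathlib.RingTheory.AlgebraicIndependent.RankAndCardinality
import Mathlib.SetTheory.Cardinal.Arithmetic
import Mathlib.AlgebraicGeometry.Pullbacks
import Mathlib.AlgebraicGeometry.ResidueField

/-!
# Two embeddings of a field into a large algebraically closed field are conjugate
-/

set_option autoImplicit false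

open CategoryTheory CategoryTheory.Limits AlgebraicGeometry Cardinal

namespace Groth.Agent.GrpdPoint

universe u

lemma exists_ringEquiv (R : Type u) (K L : Type u) [Field R] [Field K] [Field L] [Algebra R K] [Algebra R L]
    [IsAlgClosed K] [IsAlgClosed L] (h : Algebra.trdeg R K = Algebra.trdeg R L) :
    ∃ e : K ≃+* L, ∀ r, e (algebraMap R K r) = algebraMap R L r := by
  obtain ⟨s, hs⟩ := exists_isTranscendenceBasis R K
  obtain ⟨t, ht⟩ := exists_isTranscendenceBasis R L
  obtain ⟨e⟩ : Nonempty (↥s ≃ ↥t) := Cardinal.eq.1 (by rw [hs.cardinalMk_eq_trdeg, h, ← ht.cardinalMk_eq_trdeg])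
  letI := IsAlgClosed.isAlgClosure_of_transcendence_basis _ hs
  letI := IsAlgClosed.isAlgClosure_of_transcendence_basis _ ht
  let e0 := hs.1.aevalEquiv.symm.trans ((MvPolynomial.renameEquiv R e).trans ht.1.aevalEquiv)
  refine ⟨IsAlgClosure.equivOfEquiv K L e0.toRingEquiv, fun r => ?_⟩
  rw [IsScalarTower.algebraMap_apply R (Algebra.adjoin R (Set.range ((↑) : s → K))) K,
    IsScalarTower.algebraMap_apply R (Algebra.adjoin R (Set.range ((↑) : t → L))) L,
    IsAlgClosure.equivOfEquiv_algebraMap]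
  exact congrArg _ (e0.commutes r)

lemma exists_big (κ : Type u) [Field κ] :
    ∃ (Ω : Type u) (_ : Field Ω) (_ : IsAlgClosed Ω) (_ : Algebra κ Ω),
      ℵ₀ ≤ Algebra.trdeg κ Ω ∧ #κ ≤ Algebra.trdeg κ Ω := by
  let ι := Set (κ ⊕ ULift.{u} ℕ)
  let Ω := AlgebraicClosure (FractionRing (MvPolynomial ι κ))
  refine ⟨Ω, inferInstance, inferInstance, inferInstance, ?_⟩
  have h1 : #ι ≤ Algebra.trdeg κ Ω := by
    have hinj : Function.Injective (IsScalarTower.toAlgHom κ (MvPolynomial ι κ) Ω) := by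
      rw [IsScalarTower.coe_toAlgHom', IsScalarTower.algebraMap_eq (MvPolynomial ι κ) (FractionRing (MvPolynomial ι κ)) Ω]
      exact (algebraMap (FractionRing (MvPolynomial ι κ)) Ω).injective.comp (IsFractionRing.injective _ _)
    refine le_trans ?_ (trdeg_le_of_injective _ hinj)
    rw [MvPolynomial.trdeg_of_isDomain, Cardinal.lift_id]
  have h2 : #(κ ⊕ ULift.{u} ℕ) ≤ #ι := by rw [Cardinal.mk_set]; exact (Cardinal.cantor _).le
  exact ⟨((by simp : ℵ₀ ≤ #(κ ⊕ ULift.{u} ℕ)).trans h2).trans h1,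
    ((Cardinal.mk_le_of_injective Sum.inl_injective).trans h2).trans h1⟩

/-- A field has an algebraically closed extension in which any two embeddings of a subfield are conjugate. -/
lemma exists_ext {k κ : Type u} [Field k] [Field κ] (a b : k →+* κ) :
    ∃ (Ω : Type u) (_ : Field Ω) (_ : IsAlgClosed Ω) (j : κ →+* Ω) (θ : Ω ≃+* Ω),
      ∀ x, θ (j (a x)) = j (b x) := by
  obtain ⟨Ω, iF, iA, iAlg, hinf, hκ⟩ := exists_big κ
  refine ⟨Ω, iF, iA, algebraMap κ Ω, ?_⟩
  let j := algebraMap κ Ω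
  have key : ∀ c : k →+* κ, @Algebra.trdeg k Ω _ _ (j.comp c).toAlgebra = Algebra.trdeg κ Ω := by
    intro c
    letI := c.toAlgebra
    letI := (j.comp c).toAlgebra
    haveI : IsScalarTower k κ Ω := IsScalarTower.of_algebraMap_eq fun _ => rfl
    rw [← trdeg_add_eq k κ (A := Ω)]
    obtain ⟨s, hs⟩ := exists_isTranscendenceBasis k κ
    exact Cardinal.add_eq_right hinf ((hs.cardinalMk_eq_trdeg ▸ Cardinal.mk_set_le s).trans hκ)
  let K1 := (j.comp a).toAlgebra
  let K2 := (j.comp b).toAlgebra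
  obtain ⟨e, he⟩ := @exists_ringEquiv k Ω Ω _ _ _ K1 K2 iA iA ((key a).trans (key b).symm)
  exact ⟨e, he⟩

/-- A section over a field point makes the residue field map invertible. -/
lemma isIso_residueFieldMap {T Z W : Scheme.{u}} (p : T ⟶ Z) (q : Z ⟶ W) [IsIso (p ≫ q)] (x : T) :
    IsIso (q.residueFieldMap (p x)) := by
  have h := Scheme.residueFieldMap_comp p q x
  haveI hc : IsIso (q.residueFieldMap (p x) ≫ p.residueFieldMap x) := h ▸ inferInstanceAs (IsIso ((p ≫ q).residueFieldMap x))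
  have hs : Function.Surjective (p.residueFieldMap x) := fun y => by
    obtain ⟨z, hz⟩ := ((ConcreteCategory.bijective_of_isIso (q.residueFieldMap (p x) ≫ p.residueFieldMap x)).2 y)
    exact ⟨_, hz⟩
  haveI : IsIso (p.residueFieldMap x) :=
    (ConcreteCategory.isIso_iff_bijective _).2 ⟨(p.residueFieldMap x).hom.injective, hs⟩
  exact IsIso.of_isIso_comp_right (q.residueFieldMap (p x)) (p.residueFieldMap x)

/-- Field points of two successive fibre products lying over a point with invertible projections. -/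
theorem exists_point {U R : Scheme.{u}} (s t : R ⟶ U) (k : Type u) [Field k] (eU : U ≅ Spec (CommRingCat.of k)) (r : R) :
    ∃ (Ω : Type u) (_ : Field Ω) (_ : IsAlgClosed Ω) (_ : Algebra k Ω),
      let g := Spec.map (CommRingCat.ofHom (algebraMap k Ω)) ≫ eU.inv
      ∃ (p : Spec (CommRingCat.of Ω) ⟶ pullback (pullback.snd g t ≫ s) g) (x : Spec (CommRingCat.of Ω)),
        IsIso (p ≫ pullback.snd (pullback.snd g t ≫ s) g) ∧
        IsIso (p ≫ pullback.fst (pullback.snd g t ≫ s) g ≫ pullback.fst g t) ∧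
        (p ≫ pullback.fst (pullback.snd g t ≫ s) g ≫ pullback.snd g t) x = r := by
  let F := R.residueField r
  obtain ⟨a, ha⟩ := Spec.map_surjective (R.fromSpecResidueField r ≫ t ≫ eU.hom)
  obtain ⟨b, hb⟩ := Spec.map_surjective (R.fromSpecResidueField r ≫ s ≫ eU.hom)
  obtain ⟨Ω, _, _, j, θ, hθ⟩ := exists_ext a.hom b.hom
  letI : Algebra k Ω := (j.comp a.hom).toAlgebra
  refine ⟨Ω, inferInstance, inferInstance, inferInstance, ?_⟩
  intro g
  let J : Spec (CommRingCat.of Ω) ⟶ R := Spec.map (CommRingCat.ofHom j) ≫ R.fromSpecResidueField r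
  have ht : (𝟙 _) ≫ g = J ≫ t := by
    rw [Category.id_comp, ← cancel_mono eU.hom]
    simp only [g, J, Category.assoc, Iso.inv_hom_id, Category.comp_id]
    rw [← ha, ← Spec.map_comp]
    rfl
  let θ' := (θ.toCommRingCatIso : CommRingCat.of Ω ≅ CommRingCat.of Ω)
  have hs : J ≫ s = Spec.map θ'.hom ≫ g := by
    rw [← cancel_mono eU.hom]
    simp only [g, J, Category.assoc, Iso.inv_hom_id, Category.comp_id]
    rw [← hb, ← Spec.map_comp, ← Spec.map_comp]
    congr 1
    ext x
    exact (hθ x).symm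
  let p₁ : Spec (CommRingCat.of Ω) ⟶ pullback g t := pullback.lift (𝟙 _) J ht
  have h₁ : (p₁ ≫ pullback.snd g t ≫ s) = Spec.map θ'.hom ≫ g := by rw [pullback.lift_snd_assoc, hs]
  let x : Spec (CommRingCat.of Ω) := IsLocalRing.closedPoint Ω
  refine ⟨pullback.lift p₁ (Spec.map θ'.hom) h₁, x, ?_, ?_, ?_⟩
  · rw [pullback.lift_snd]; infer_instance
  · rw [pullback.lift_fst_assoc, pullback.lift_fst]; infer_instance
  · rw [pullback.lift_fst_assoc, pullback.lift_snd]
    exact Scheme.fromSpecResidueField_apply r _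

end Groth.Agent.GrpdPoint
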